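import Groth.Agent.H60.LinUniq.Points
import Groth.Agent.H60.AffQuot.Action
import Groth.Agent.Lib.GrpQ.RedSubgroup
import Mathlib.AlgebraicGeometry.Morphisms.ClosedImmersion

/-!
A connected group without characters has at most one linearisation of a line bundle on a reduced scheme.
-/

set_option autoImplicit false

universe u

open CategoryTheory CategoryTheory.Limits MonoidalCategory CartesianMonoidalCategory MonObj AlgebraicGeometry
  TopologicalSpace Opposite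

namespace Groth.Agent.H60.LinUniq

noncomputable section

variable {k : Type u} [Field k] [IsAlgClosed k]

theorem isUnit_of_basicOpen_eq_top {W : Scheme.{u}} (c : Γ(W, ⊤)) (h : W.basicOpen c = ⊤) : IsUnit c :=
  W.toLocallyRingedSpace.toRingedSpace.isUnit_of_isUnit_germ ⊤ c fun x hx =>
    (W.mem_basicOpen c x hx).mp (by rw [h]; exact hx)

theorem exists_point_at {W : Over (Spec (CommRingCat.of k))} [LocallyOfFiniteType W.hom] (w : W.left)
    (hw : IsClosed ({w} : Set W.left)) :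
    ∃ (p : 𝟙_ (Over (Spec (CommRingCat.of k))) ⟶ W), ∀ z, p.left.base z = w := by
  refine ⟨Over.homMk (pointOfClosedPoint W.hom w hw) (pointOfClosedPoint_comp W.hom w hw), fun z => ?_⟩
  exact pointOfClosedPoint_apply W.hom w hw z

/-- Two morphisms over `X` into a scheme separated over `X` which agree at rational points agree. -/
theorem ext_over {W X V : Over (Spec (CommRingCat.of k))} [LocallyOfFiniteType W.hom] [IsReduced W.left]
    (π : V ⟶ X) [IsSeparated π.left] (m1 m2 : W ⟶ V) (h0 : m1 ≫ π = m2 ≫ π)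
    (h : ∀ p : 𝟙_ (Over (Spec (CommRingCat.of k))) ⟶ W, p ≫ m1 = p ≫ m2) : m1 = m2 := by
  let mp : W.left ⟶ pullback π.left π.left :=
    pullback.lift m1.left m2.left (by rw [← Over.comp_left, h0, Over.comp_left])
  let d : V.left ⟶ pullback π.left π.left := pullback.diagonal π.left
  let i : pullback d mp ⟶ W.left := pullback.snd d mp
  haveI : IsClosedImmersion i := inferInstanceAs (IsClosedImmersion (pullback.snd _ _))
  haveI : JacobsonSpace W.left := LocallyOfFiniteType.jacobsonSpace W.hom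
  have hsurj : Set.range i.base = Set.univ := by
    refine eq_top_iff.mpr ?_
    show Set.univ ⊆ _
    rw [← closure_closedPoints (X := W.left)]
    refine closure_minimal (fun w hw => ?_) i.isClosedEmbedding.isClosed_range
    obtain ⟨p, hp⟩ := exists_point_at w hw
    have e : ((p ≫ m1).left) ≫ d = p.left ≫ mp := by
      apply pullback.hom_ext
      · rw [Category.assoc, pullback.diagonal_fst, Category.comp_id, Category.assoc, pullback.lift_fst,
          Over.comp_left]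
      · rw [Category.assoc, pullback.diagonal_snd, Category.comp_id, Category.assoc, pullback.lift_snd,
          h p, Over.comp_left]
    let z : (𝟙_ (Over (Spec (CommRingCat.of k)))).left := IsLocalRing.closedPoint k
    refine ⟨(pullback.lift (p ≫ m1).left p.left e).base z, ?_⟩
    show (pullback.lift (p ≫ m1).left p.left e ≫ i).base z = w
    rw [show pullback.lift (p ≫ m1).left p.left e ≫ i = p.left from pullback.lift_snd _ _ _, hp]
  haveI : Surjective i := ⟨fun w => (Set.eq_univ_iff_forall.mp hsurj) w⟩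
  haveI : IsIso i := isIso_of_isClosedImmersion_of_surjective i
  have e : (inv i ≫ pullback.fst d mp) ≫ d = mp := by
    rw [Category.assoc, pullback.condition, IsIso.inv_hom_id_assoc]
  have e1 := congrArg (· ≫ pullback.fst π.left π.left) e
  have e2 := congrArg (· ≫ pullback.snd π.left π.left) e
  simp only [Category.assoc, d, pullback.diagonal_fst, pullback.diagonal_snd, Category.comp_id, mp,
    pullback.lift_fst, pullback.lift_snd] at e1 e2
  exact Over.OverMorphism.ext (e1.symm.trans e2)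

variable {G X V : Over (Spec (CommRingCat.of k))} [GrpObj G] {a : AlgGrp.Action G X} {π : V ⟶ X}

theorem act_point_eq (A : GLinSh.LinAtlas π) [Smooth G.hom] [LocallyOfFiniteType G.hom] [QuasiCompact G.hom]
    [ConnectedSpace G.left]
    (hχ : ∀ (χ : G ⟶ Red.Gm (Spec (CommRingCat.of k))) [IsMonHom χ], χ = 1)
    {Φ₁ Φ₂ : AlgGrp.Action G V} (h₁ : Φ₁.act ≫ π = (G ◁ π) ≫ a.act) (h₂ : Φ₂.act ≫ π = (G ◁ π) ≫ a.act)
    (hl₁ : GLinSh.IsLinearLift a π Φ₁ A.chart h₁) (hl₂ : GLinSh.IsLinearLift a π Φ₂ A.chart h₂)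
    (g : 𝟙_ (Over (Spec (CommRingCat.of k))) ⟶ G) (v : 𝟙_ (Over (Spec (CommRingCat.of k))) ⟶ V) :
    lift g v ≫ Φ₁.act = lift g v ≫ Φ₂.act := by
  let z : (𝟙_ (Over (Spec (CommRingCat.of k)))).left := IsLocalRing.closedPoint k
  let x : 𝟙_ (Over (Spec (CommRingCat.of k))) ⟶ X := v ≫ π
  have ovr : ∀ (Φ : AlgGrp.Action G V), Φ.act ≫ π = (G ◁ π) ≫ a.act →
      ∀ (g : 𝟙_ (Over (Spec (CommRingCat.of k))) ⟶ G) (w : 𝟙_ (Over (Spec (CommRingCat.of k))) ⟶ V),
      (lift g w ≫ Φ.act) ≫ π = lift g (w ≫ π) ≫ a.act := fun Φ hΦ g w => by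
    rw [Category.assoc, hΦ, lift_whiskerLeft_assoc]
  obtain ⟨U, hxU, ⟨y, hy⟩⟩ := A.cover (x.left.base z)
  -- the point `y = 1` over `x`
  obtain ⟨W, hW, hxW, hsub⟩ := exists_isAffineOpen_mem_and_subset (U := U) hxU
  have hWU : W ≤ U := hsub
  obtain ⟨s, hs, hs1⟩ := LinB.exists_section A.affine (A.coord U y hy) hW hWU
  have hxr : Set.range x.left.base ⊆ (W : Set X.left) := by
    rintro _ ⟨z', rfl⟩
    have : Subsingleton ((𝟙_ (Over (Spec (CommRingCat.of k)))).left) :=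
      inferInstanceAs (Subsingleton (PrimeSpectrum k))
    rw [@Subsingleton.elim _ this z' z]
    exact hxW
  let xW : 𝟙_ (Over (Spec (CommRingCat.of k))) ⟶ GlueQ.sub W :=
    Over.homMk (IsOpenImmersion.lift W.ι x.left (by simpa using hxr)) (by
      show IsOpenImmersion.lift W.ι x.left _ ≫ W.ι ≫ X.hom = _
      rw [IsOpenImmersion.lift_fac_assoc, Over.w x])
  have hxW' : xW ≫ GlueQ.incl W = x := Over.OverMorphism.ext (IsOpenImmersion.lift_fac _ _ _)
  let v₀ := xW ≫ s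
  have hv₀ : v₀ ≫ π = x := by rw [Category.assoc, hs, hxW']
  have hes : ⊤ ≤ s.left ⁻¹ᵁ (π.left ⁻¹ᵁ U) := by
    intro w _
    show (s ≫ π).left.base w ∈ U
    rw [hs]
    exact hWU w.2
  have memU : ∀ w : 𝟙_ (Over (Spec (CommRingCat.of k))) ⟶ V, w ≫ π = x → ⊤ ≤ w.left ⁻¹ᵁ (π.left ⁻¹ᵁ U) :=
    fun w hw => le_preimage_of_mem w (z := z) (by
      show (w ≫ π).left.base z ∈ U
      rw [hw]; exact hxU)
  have hy₀ : ev v₀ (memU v₀ hv₀) y = 1 := by
    rw [← ev_comp xW s hes le_top (memU v₀ hv₀) y, hs1 hes, map_one]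
  have memAct : ∀ (Φ : AlgGrp.Action G V), Φ.act ≫ π = (G ◁ π) ≫ a.act →
      ∀ (g : 𝟙_ (Over (Spec (CommRingCat.of k))) ⟶ G) (w : 𝟙_ (Over (Spec (CommRingCat.of k))) ⟶ V)
        (U' : X.left.Opens), w ≫ π = x → (lift g x ≫ a.act).left.base z ∈ U' →
        ⊤ ≤ (lift g w ≫ Φ.act).left ⁻¹ᵁ (π.left ⁻¹ᵁ U') := fun Φ hΦ g w U' hw hU' =>
    le_preimage_of_mem _ (z := z) (by
      show ((lift g w ≫ Φ.act) ≫ π).left.base z ∈ U'
      rw [ovr Φ hΦ, hw]; exact hU')
  -- the ratio as a function on `G`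
  let ψ : G ⟶ V := lift (𝟙 G)⁻¹ (lift (𝟙 G) (toUnit G ≫ v₀) ≫ Φ₁.act) ≫ Φ₂.act
  have hψ : ∀ g : 𝟙_ (Over (Spec (CommRingCat.of k))) ⟶ G,
      g ≫ ψ = lift g⁻¹ (lift g v₀ ≫ Φ₁.act) ≫ Φ₂.act := fun g => by
    simp only [ψ, comp_lift_assoc, GrpObj.comp_inv, Category.comp_id]
    rw [← Category.assoc g (toUnit G), toUnit_unique (g ≫ toUnit G) (𝟙 _), Category.id_comp]
  have hψπ : ψ ≫ π = toUnit G ≫ x := by
    rw [Category.assoc, h₂, lift_whiskerLeft_assoc, Category.assoc, h₁, lift_whiskerLeft_assoc,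
      Category.assoc, hv₀, ← AffQuot.lift_mul_act a, inv_mul_cancel, AffQuot.lift_one_act a]
  have eψ : ⊤ ≤ ψ.left ⁻¹ᵁ (π.left ⁻¹ᵁ U) := by
    intro w _
    show (ψ ≫ π).left.base w ∈ U
    rw [hψπ]
    show x.left.base ((toUnit G).left.base w) ∈ U
    exact le_preimage_of_mem x (z := z) hxU trivial
  let f : Γ(G.left, ⊤) := ψ.left.appLE (π.left ⁻¹ᵁ U) ⊤ eψ y
  have hev : ∀ g : 𝟙_ (Over (Spec (CommRingCat.of k))) ⟶ G, ∀ h,
      ev g le_top f = ev (g ≫ ψ) h y := fun g h => ev_comp g ψ eψ le_top h y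
  have hψx : ∀ g : 𝟙_ (Over (Spec (CommRingCat.of k))) ⟶ G, (g ≫ ψ) ≫ π = x := fun g => by
    rw [Category.assoc, hψπ, ← Category.assoc, toUnit_unique (g ≫ toUnit G) (𝟙 _), Category.id_comp]
  have hval : ∀ g : 𝟙_ (Over (Spec (CommRingCat.of k))) ⟶ G, ev g le_top f ≠ 0 := by
    intro g h0
    rw [hev g (memU _ (hψx g))] at h0
    obtain ⟨U', hU', ⟨y', hy'⟩⟩ := A.cover ((lift g x ≫ a.act).left.base z)
    obtain ⟨c, hc⟩ := linear_at A hl₂ hy hy' g x
    have h2 := hc (g ≫ ψ) (hψx g) (memU _ (hψx g)) (memAct Φ₂ h₂ g _ U' (hψx g) hU')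
    rw [h0, mul_zero] at h2
    have e : lift g (g ≫ ψ) ≫ Φ₂.act = lift g v₀ ≫ Φ₁.act := by
      rw [hψ g, ← AffQuot.lift_mul_act Φ₂, mul_inv_cancel, AffQuot.lift_one_act Φ₂]
    have hwU' : ⊤ ≤ (lift g v₀ ≫ Φ₁.act).left ⁻¹ᵁ (π.left ⁻¹ᵁ U') := memAct Φ₁ h₁ g v₀ U' hv₀ hU'
    rw [ev_congr e (h' := hwU') y'] at h2
    obtain ⟨c', hc'⟩ := linear_at A hl₁ hy' hy g⁻¹ (lift g x ≫ a.act)
    have e' : lift g⁻¹ (lift g v₀ ≫ Φ₁.act) ≫ Φ₁.act = v₀ := by
      rw [← AffQuot.lift_mul_act Φ₁, inv_mul_cancel, AffQuot.lift_one_act Φ₁]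
    have h3 := hc' (lift g v₀ ≫ Φ₁.act) (by rw [ovr Φ₁ h₁, hv₀]) hwU' (by rw [e']; exact memU v₀ hv₀)
    rw [h2, mul_zero, ev_congr e' (h' := memU v₀ hv₀) y, hy₀] at h3
    exact one_ne_zero' h3
  have hfu : IsUnit f := by
    haveI : JacobsonSpace G.left := LocallyOfFiniteType.jacobsonSpace G.hom
    have htop : G.left.basicOpen f = ⊤ := by
      by_contra hne
      have hne' : ((G.left.basicOpen f : Set G.left))ᶜ.Nonempty := by
        rw [Set.nonempty_compl]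
        exact fun h => hne (SetLike.coe_injective h)
      obtain ⟨w, hwc, hw⟩ := nonempty_inter_closedPoints hne'
        (G.left.basicOpen f).2.isClosed_compl.isLocallyClosed
      obtain ⟨p, hp⟩ := exists_point_at w hw
      apply hwc
      show w ∈ G.left.basicOpen f
      rw [← hp z]
      show z ∈ p.left ⁻¹ᵁ G.left.basicOpen f
      rw [Scheme.preimage_basicOpen]
      have hu : IsUnit (ev p le_top f) := (isUnit_or_zero _).resolve_right (hval p)
      have hu' : IsUnit (p.left.app ⊤ f) := by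
        rw [Scheme.Hom.app_eq_appLE]
        exact hu
      rw [Scheme.basicOpen_of_isUnit _ hu']
      trivial
    exact isUnit_of_basicOpen_eq_top f htop
  have hη : η[G].left.appTop f = 1 := by
    have e : η[G] ≫ ψ = v₀ := by
      rw [hψ, show η[G] = (1 : 𝟙_ _ ⟶ G) from (by
        rw [Hom.one_def, toUnit_unique (toUnit _) (𝟙 _), Category.id_comp]), inv_one,
        AffQuot.lift_one_act Φ₁, AffQuot.lift_one_act Φ₂]
    show η[G].left.app ⊤ f = 1
    rw [Scheme.Hom.app_eq_appLE]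
    show ev η[G] le_top f = 1
    rw [hev η[G] (memU _ (hψx _)), ev_congr e (h' := memU v₀ hv₀) y, hy₀]
  obtain ⟨χ, hχf⟩ := Lib.RedPts.Gm.exists_gmFn_eq (S := Spec (CommRingCat.of k)) hfu
  haveI : IsMonHom χ := by
    refine ⟨?_, ?_⟩
    · apply Lib.RedPts.Gm.gmFn_injective
      rw [Lib.RedPts.Gm.η_eq_one (Red.Gm _), Lib.RedPts.Gm.gmFn_comp, hχf, Lib.RedPts.Gm.gmFn_one]
      exact hη
    · apply Lib.RedPts.Gm.gmFn_injective
      rw [Lib.RedPts.Gm.gmFn_comp, hχf,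
        show (χ ⊗ₘ χ) ≫ μ[Red.Gm (Spec (CommRingCat.of k))] = (fst G G ≫ χ) * (snd G G ≫ χ) by
          rw [Hom.mul_def, lift_fst_comp_snd_comp], Lib.RedPts.Gm.gmFn_mul, Lib.RedPts.Gm.gmFn_comp,
        Lib.RedPts.Gm.gmFn_comp, hχf]
      exact Lib.GrpQ.Rosenlicht.character f hfu hη
  have hf1 : f = 1 := by rw [← hχf, hχ χ, Lib.RedPts.Gm.gmFn_one]
  have hfix : ∀ g : 𝟙_ (Over (Spec (CommRingCat.of k))) ⟶ G, lift g v₀ ≫ Φ₁.act = lift g v₀ ≫ Φ₂.act := by
    intro g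
    have e : g ≫ ψ = v₀ := by
      refine point_ext A.affine (A.coord U y hy) ((hψx g).trans hv₀.symm) (memU _ (hψx g)) (memU _ hv₀) ?_
      rw [← hev g, hf1, map_one, hy₀]
    rw [hψ g] at e
    conv_rhs => rw [← e]
    rw [← AffQuot.lift_mul_act Φ₂, mul_inv_cancel, AffQuot.lift_one_act Φ₂]
  -- linearity
  obtain ⟨U', hU', ⟨y', hy'⟩⟩ := A.cover ((lift g x ≫ a.act).left.base z)
  obtain ⟨c₁, hc₁⟩ := linear_at A hl₁ hy hy' g x
  obtain ⟨c₂, hc₂⟩ := linear_at A hl₂ hy hy' g x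
  have hc : c₁ = c₂ := by
    have h1 := hc₁ v₀ hv₀ (memU _ hv₀) (memAct Φ₁ h₁ g v₀ U' hv₀ hU')
    have h2 := hc₂ v₀ hv₀ (memU _ hv₀) (memAct Φ₂ h₂ g v₀ U' hv₀ hU')
    rw [hy₀, _root_.mul_one] at h1 h2
    rw [← h1, ← h2]
    exact ev_congr (hfix g) y'
  refine point_ext A.affine (A.coord U' y' hy') (by rw [ovr Φ₁ h₁, ovr Φ₂ h₂])
    (memAct Φ₁ h₁ g v U' rfl hU') (memAct Φ₂ h₂ g v U' rfl hU') ?_
  rw [hc₁ v rfl (memU v rfl) _, hc₂ v rfl (memU v rfl) _, hc]

end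

end Groth.Agent.H60.LinUniq
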