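import Groth.Agent.H60.LinB.Coef
import Groth.Agent.Lib.GrpQ.Rosenlicht
import Groth.Agent.Lib.RedPts.Gm
import Mathlib.AlgebraicGeometry.AlgClosed.Basic

/-!
Values of functions on line bundles at rational points; uniqueness of linearisations.
-/

set_option autoImplicit false

universe u

open CategoryTheory CategoryTheory.Limits MonoidalCategory CartesianMonoidalCategory MonObj AlgebraicGeometry
  TopologicalSpace Opposite

namespace Groth.Agent.H60.LinUniq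

noncomputable section

variable {k : Type u} [Field k]

/-- Functions on the base point. -/
abbrev Kk (k : Type u) [Field k] : Type u := Γ((𝟙_ (Over (Spec (CommRingCat.of k)))).left, ⊤)

/-- The value of a function at a rational point. -/
def ev {W : Over (Spec (CommRingCat.of k))} (p : 𝟙_ (Over (Spec (CommRingCat.of k))) ⟶ W) {O : W.left.Opens}
    (h : (⊤ : (𝟙_ (Over (Spec (CommRingCat.of k)))).left.Opens) ≤ p.left ⁻¹ᵁ O) : Γ(W.left, O) →+* (Kk k) :=
  (p.left.appLE O ⊤ h).hom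

theorem le_preimage_of_mem {W : Over (Spec (CommRingCat.of k))} (p : 𝟙_ (Over (Spec (CommRingCat.of k))) ⟶ W)
    {O : W.left.Opens} {z : (𝟙_ (Over (Spec (CommRingCat.of k)))).left} (h : p.left.base z ∈ O) :
    (⊤ : (𝟙_ (Over (Spec (CommRingCat.of k)))).left.Opens) ≤ p.left ⁻¹ᵁ O := by
  intro z' _
  have : Subsingleton ((𝟙_ (Over (Spec (CommRingCat.of k)))).left) :=
    inferInstanceAs (Subsingleton (PrimeSpectrum k))
  rwa [@Subsingleton.elim _ this z' z]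

theorem isUnit_or_zero (r : (Kk k)) : IsUnit r ∨ r = 0 := by
  let e := (Scheme.ΓSpecIso (CommRingCat.of k)).commRingCatIsoToRingEquiv
  rcases eq_or_ne (e r) 0 with h | h
  · exact Or.inr (e.injective (h.trans (map_zero e).symm))
  · exact Or.inl (by simpa using (isUnit_iff_ne_zero.mpr h).map e.symm)

theorem one_ne_zero' : (1 : (Kk k)) ≠ 0 := fun h => by
  have := congrArg (Scheme.ΓSpecIso (CommRingCat.of k)).hom h
  rw [map_one, map_zero] at this
  exact one_ne_zero this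

theorem ev_congr {W : Over (Spec (CommRingCat.of k))} {p p' : 𝟙_ (Over (Spec (CommRingCat.of k))) ⟶ W}
    (hp : p = p') {O : W.left.Opens} {h : ⊤ ≤ p.left ⁻¹ᵁ O} {h' : ⊤ ≤ p'.left ⁻¹ᵁ O} (s : Γ(W.left, O)) :
    ev p h s = ev p' h' s := by subst hp; rfl

theorem ev_comp {W W' : Over (Spec (CommRingCat.of k))} (p : 𝟙_ (Over (Spec (CommRingCat.of k))) ⟶ W)
    (f : W ⟶ W') {O : W.left.Opens} {O' : W'.left.Opens} (e : O ≤ f.left ⁻¹ᵁ O') (h : ⊤ ≤ p.left ⁻¹ᵁ O)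
    (h' : ⊤ ≤ (p ≫ f).left ⁻¹ᵁ O') (s : Γ(W'.left, O')) :
    ev p h (f.left.appLE O' O e s) = ev (p ≫ f) h' s :=
  DFunLike.congr_fun (congrArg CommRingCat.Hom.hom (Scheme.Hom.appLE_comp_appLE p.left f.left O' O ⊤ e h)) s

theorem ev_app {W W' : Over (Spec (CommRingCat.of k))} (p : 𝟙_ (Over (Spec (CommRingCat.of k))) ⟶ W)
    (f : W ⟶ W') {O' : W'.left.Opens} (h : ⊤ ≤ p.left ⁻¹ᵁ (f.left ⁻¹ᵁ O')) (s : Γ(W'.left, O')) :
    ev p h (f.left.app O' s) = ev (p ≫ f) h s := by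
  rw [← Scheme.Hom.appLE_eq_app]
  exact ev_comp p f le_rfl h h s

theorem ev_rf {W : Over (Spec (CommRingCat.of k))} (p : 𝟙_ (Over (Spec (CommRingCat.of k))) ⟶ W)
    {O O' : W.left.Opens} (hO : O' ≤ O) (h : ⊤ ≤ p.left ⁻¹ᵁ O') (s : Γ(W.left, O)) :
    ev p h (LinB.rf hO s) = ev p (h.trans (p.left.preimage_mono hO)) s := by
  show (W.left.presheaf.map (homOfLE hO).op ≫ p.left.appLE O' ⊤ h) s = _
  rw [Scheme.Hom.map_appLE]
  rfl

section Bundle

variable {X V : Over (Spec (CommRingCat.of k))} {π : V ⟶ X}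

theorem point_ext (hπ : IsAffineHom π.left) {U : X.left.Opens} {y : Γ(V.left, π.left ⁻¹ᵁ U)}
    (hy : GLinSh.IsFibreCoord π U y) {w w' : 𝟙_ (Over (Spec (CommRingCat.of k))) ⟶ V}
    (hw : w ≫ π = w' ≫ π) (hU : ⊤ ≤ w.left ⁻¹ᵁ (π.left ⁻¹ᵁ U)) (hU' : ⊤ ≤ w'.left ⁻¹ᵁ (π.left ⁻¹ᵁ U))
    (h : ev w hU y = ev w' hU' y) : w = w' := by
  haveI := hπ
  let z : (𝟙_ (Over (Spec (CommRingCat.of k)))).left := IsLocalRing.closedPoint k
  obtain ⟨W, hW, hzW, hsub⟩ := exists_isAffineOpen_mem_and_subset (U := U) (x := π.left.base (w.left.base z)) (hU trivial)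
  have hWU : W ≤ U := hsub
  have e : (⊤ : (𝟙_ (Over (Spec (CommRingCat.of k)))).left.Opens) ≤ w.left ⁻¹ᵁ (π.left ⁻¹ᵁ W) :=
    le_preimage_of_mem w (z := z) hzW
  have e' : (⊤ : (𝟙_ (Over (Spec (CommRingCat.of k)))).left.Opens) ≤ w'.left ⁻¹ᵁ (π.left ⁻¹ᵁ W) := by
    refine le_preimage_of_mem w' (z := z) ?_
    show (w' ≫ π).left.base z ∈ W
    rw [← hw]
    exact hzW
  have hO : IsAffineOpen (π.left ⁻¹ᵁ W) := hW.preimage π.left
  have happ : ev w e = ev w' e' := by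
    refine RingHom.ext fun s => ?_
    obtain ⟨P, rfl⟩ := (hy W hW hWU).2 s
    induction P using Polynomial.induction_on' with
    | add p q hp hq => rw [map_add, map_add, map_add, hp, hq]
    | monomial n c =>
      rw [Polynomial.coe_eval₂RingHom, Polynomial.eval₂_monomial, map_mul, map_mul, map_pow, map_pow]
      have h1 : ev w e (π.left.app W c) = ev w' e' (π.left.app W c) := by
        rw [ev_app, ev_app]
        exact ev_congr hw c
      have h2 : ev w e (GLinSh.res π hWU y) = ev w' e' (GLinSh.res π hWU y) :=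
        (ev_rf w _ e y).trans (h.trans (ev_rf w' _ e' y).symm)
      exact congrArg₂ (fun a b => a * b ^ n) h1 h2
  haveI : IsAffine (𝟙_ (Over (Spec (CommRingCat.of k)))).left :=
    inferInstanceAs (IsAffine (Spec (CommRingCat.of k)))
  have ht : IsAffineOpen (⊤ : (𝟙_ (Over (Spec (CommRingCat.of k)))).left.Opens) :=
    isAffineOpen_top (Spec (CommRingCat.of k))
  have h1 := hO.SpecMap_appLE_fromSpec w.left ht e
  have h2 := hO.SpecMap_appLE_fromSpec w'.left ht e'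
  have hs : w.left.appLE (π.left ⁻¹ᵁ W) ⊤ e = w'.left.appLE (π.left ⁻¹ᵁ W) ⊤ e' := CommRingCat.hom_ext happ
  rw [hs, h2, IsAffineOpen.fromSpec_top] at h1
  exact Over.OverMorphism.ext ((cancel_epi (Scheme.isoSpec _).inv).mp h1).symm

variable {G : Over (Spec (CommRingCat.of k))} [GrpObj G] {a : AlgGrp.Action G X} {Φ : AlgGrp.Action G V}

theorem linear_at (A : GLinSh.LinAtlas π) {hΦ : Φ.act ≫ π = (G ◁ π) ≫ a.act}
    (hl : GLinSh.IsLinearLift a π Φ A.chart hΦ) {U U' : X.left.Opens} {y : Γ(V.left, π.left ⁻¹ᵁ U)}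
    {y' : Γ(V.left, π.left ⁻¹ᵁ U')} (hy : y ∈ A.chart U) (hy' : y' ∈ A.chart U')
    (g : 𝟙_ (Over (Spec (CommRingCat.of k))) ⟶ G) (x : 𝟙_ (Over (Spec (CommRingCat.of k))) ⟶ X) :
    ∃ c : (Kk k), ∀ (v : 𝟙_ (Over (Spec (CommRingCat.of k))) ⟶ V), v ≫ π = x →
      ∀ (hv : ⊤ ≤ v.left ⁻¹ᵁ (π.left ⁻¹ᵁ U)) (hv' : ⊤ ≤ (lift g v ≫ Φ.act).left ⁻¹ᵁ (π.left ⁻¹ᵁ U')),
        ev (lift g v ≫ Φ.act) hv' y' = c * ev v hv y := by
  obtain ⟨c, hc⟩ := hl U U' y y' hy hy'
  by_cases hx : ⊤ ≤ (lift g x).left ⁻¹ᵁ (a.act.left ⁻¹ᵁ U' ⊓ (snd G X).left ⁻¹ᵁ U)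
  · refine ⟨ev (lift g x) hx c, fun v hv hvU hvU' => ?_⟩
    have hq : lift g v ≫ (G ◁ π) = lift g x := by rw [lift_whiskerLeft, hv]
    have hO : (⊤ : (𝟙_ (Over (Spec (CommRingCat.of k)))).left.Opens) ≤
        (lift g v).left ⁻¹ᵁ GLinSh.liftOpen a π U U' := by
      refine le_trans hx (le_of_eq ?_)
      rw [← hq]
      rfl
    have h := congrArg (ev (lift g v) hO) hc
    rw [map_mul, ev_comp (lift g v) Φ.act _ hO hvU',
      ev_comp (lift g v) (G ◁ π) _ hO (by rw [hq]; exact hx),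
      ev_comp (lift g v) (snd G V) _ hO (by rw [lift_snd]; exact hvU)] at h
    rw [h]
    exact congrArg₂ (· * ·) (ev_congr hq c) (ev_congr (lift_snd _ _) y)
  · refine ⟨0, fun v hv hvU hvU' => absurd ?_ hx⟩
    intro z hz
    refine ⟨?_, ?_⟩
    · have := hvU' hz
      have e : ((lift g v ≫ Φ.act) ≫ π) = lift g x ≫ a.act := by
        rw [Category.assoc, hΦ, lift_whiskerLeft_assoc, hv]
      show (lift g x ≫ a.act).left.base z ∈ U'
      rw [← e]
      exact this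
    · show (lift g x ≫ snd G X).left.base z ∈ U
      rw [lift_snd, ← hv]
      exact hvU hz

end Bundle

end

end Groth.Agent.H60.LinUniq
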