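import Groth.Prelude.Def_GLinSh
import Groth.Agent.S9841
import Mathlib.RingTheory.Polynomial.Nilpotent
import Mathlib.AlgebraicGeometry.Morphisms.FiniteType

/-!
The total space of a line bundle is of finite type over the base, and reduced over a reduced base.
-/

set_option autoImplicit false

universe u

open CategoryTheory CategoryTheory.Limits MonoidalCategory CartesianMonoidalCategory MonObj AlgebraicGeometry
  TopologicalSpace Opposite

namespace Groth.Agent.H60.LinUniq

noncomputable section

theorem isReduced_of_smooth_over {A B : Scheme.{u}} (g : A ⟶ B) [hg : Smooth g] [IsReduced B] :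
    IsReduced A := by
  let X : ULift.{u} Bool → Scheme.{u} := fun b ↦ if b.down then A else B
  let f : ∀ b, X b ⟶ B := fun b ↦ match b with
    | ⟨true⟩ => g
    | ⟨false⟩ => 𝟙 B
  have hmem : Presieve.ofArrows X f ∈ Scheme.precoverage @Smooth B := by
    rw [Scheme.ofArrows_mem_precoverage_iff]
    exact ⟨fun x ↦ ⟨⟨false⟩, x, rfl⟩, fun b ↦ match b with
      | ⟨true⟩ => hg
      | ⟨false⟩ => (inferInstance : Smooth (𝟙 B))⟩
  exact (Groth.Agent.S9841.result f hmem).1 ‹_› ⟨true⟩

theorem isReduced_polynomial (R : Type u) [CommRing R] [_root_.IsReduced R] : _root_.IsReduced (Polynomial R) :=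
  ⟨fun _ hp => Polynomial.ext fun i => by
    rw [Polynomial.coeff_zero]
    exact IsNilpotent.eq_zero (Polynomial.isNilpotent_iff.mp hp i)⟩

variable {S : Scheme.{u}} {X V : Over S} {π : V ⟶ X}

theorem exists_affine_chart (A : GLinSh.LinAtlas π) (x : X.left) :
    ∃ (U W : X.left.Opens) (y : Γ(V.left, π.left ⁻¹ᵁ U)) (hWU : W ≤ U), IsAffineOpen W ∧ x ∈ W ∧
      Function.Bijective (Polynomial.eval₂RingHom (π.left.app W).hom (GLinSh.res π hWU y)) := by
  obtain ⟨U, hxU, ⟨y, hy⟩⟩ := A.cover x
  obtain ⟨W, hW, hxW, hsub⟩ := exists_isAffineOpen_mem_and_subset (U := U) hxU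
  exact ⟨U, W, y, hsub, hW, hxW, A.coord U y hy W hW hsub⟩

theorem lft_total (A : GLinSh.LinAtlas π) [LocallyOfFiniteType X.hom] : LocallyOfFiniteType V.hom := by
  haveI := A.affine
  haveI : LocallyOfFiniteType π.left := by
    rw [HasRingHomProperty.iff_exists_appLE (P := @LocallyOfFiniteType)
      (RingHom.finiteType_stableUnderComposition.stableUnderCompositionWithLocalizationAway
        RingHom.finiteType_holdsForLocalizationAway).left]
    intro v
    obtain ⟨U, W, y, hWU, hW, hxW, hb⟩ := exists_affine_chart A (π.left.base v)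
    refine ⟨⟨W, hW⟩, ⟨π.left ⁻¹ᵁ W, hW.preimage π.left⟩, hxW, le_rfl, ?_⟩
    rw [Scheme.Hom.appLE_eq_app]
    have h1 : (Polynomial.C : Γ(X.left, W) →+* Polynomial Γ(X.left, W)).FiniteType :=
      RingHom.finiteType_algebraMap.mpr inferInstance
    have h2 := (RingHom.FiniteType.of_surjective _ hb.2).comp h1
    convert h2 using 1
    refine RingHom.ext fun c => ?_
    simp
  rw [← Over.w π]
  infer_instance

theorem isReduced_total (A : GLinSh.LinAtlas π) [IsReduced X.left] : IsReduced V.left := by
  haveI := A.affine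
  have : ∀ v : V.left, _root_.IsReduced (V.left.presheaf.stalk v) := by
    intro v
    obtain ⟨U, W, y, hWU, hW, hxW, hb⟩ := exists_affine_chart A (π.left.base v)
    have hV : IsAffineOpen (π.left ⁻¹ᵁ W) := hW.preimage π.left
    have := isReduced_polynomial Γ(X.left, W)
    haveI : _root_.IsReduced Γ(V.left, π.left ⁻¹ᵁ W) :=
      isReduced_of_injective (RingEquiv.ofBijective _ hb).symm.toRingHom (RingEquiv.injective _)
    exact @isReduced_localizationPreserves.{u} _ _ (hV.primeIdealOf ⟨v, hxW⟩).asIdeal.primeCompl _ _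
      (TopCat.Presheaf.algebra_section_stalk _ ⟨v, hxW⟩) (hV.isLocalization_stalk ⟨v, hxW⟩) inferInstance
  exact isReduced_of_isReduced_stalk _

end

end Groth.Agent.H60.LinUniq
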